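import Groth.Agent.Lib.Helper15.RepBySpEt1
import Groth.Agent.Lib.Helper15.EtSheaf1

/-!
# An étale sheaf with an étale surjective cover (representable by algebraic spaces) from an algebraic
space is an algebraic space (helper19)
-/

set_option autoImplicit false
set_option linter.style.haveILetI false
universe u
open CategoryTheory CategoryTheory.Limits AlgebraicGeometry MorphismProperty Opposite
open AlgSp

namespace Groth.Agent.Helper19.EtBoot
open Groth.Agent.Helper15 Groth.Agent.Helper15.RepBySpEt Groth.Agent.Helper15.EtSheaf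

variable {S : Scheme.{u}}

/-- To check `RepBySpWith Q` for a morphism of presheaves it suffices to exhibit, for every test
map, one pullback square whose corner is an algebraic space with `Q`. -/
theorem repBySpWith_of_exists_pullback {F G : PSp S} (a : F ⟶ G) (Q : MorphismProperty (Sp S))
    (hQ : ∀ {A B C : Sp S} (e : A ≅ B) (f : B ⟶ C), Q f → Q (e.hom ≫ f))
    (h : ∀ (T : Over S) (ξ : (pyon S).obj T ⟶ G), ∃ (E : Sp S) (fst : E.obj ⟶ F)
      (snd : E ⟶ (yon S).obj T), IsPullback fst snd.hom a ξ ∧ IsAlgSpace E ∧ Q snd) :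
    RepBySpWith Q a := by
  intro U ξ F' fst snd sq
  obtain ⟨E, fstE, sndE, pbE, hE, hQE⟩ := h U ξ
  let e' : F' ≅ E.obj := sq.isoIsPullback _ _ pbE
  have hsh : Presheaf.IsSheaf (J S) F' :=
    (Presheaf.isSheaf_of_iso_iff e'.symm).1 E.property
  refine ⟨hsh, ?_⟩
  let E' : Sp S := ⟨F', hsh⟩
  let e : E' ≅ E := (fullyFaithfulSheafToPresheaf (J S) _).preimageIso e'
  refine ⟨hE.of_iso e.symm, ?_⟩
  have : (ObjectProperty.homMk snd : E' ⟶ (yon S).obj U) = e.hom ≫ sndE := by
    apply Sheaf.hom_ext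
    exact (sq.isoIsPullback_hom_snd _ _ pbE).symm
  rw [this]
  exact hQ e _ hQE

set_option maxHeartbeats 800000 in
/-- **Étale bootstrap.** An étale sheaf receiving a surjective étale map, representable by algebraic
spaces, from an algebraic space is an algebraic space. -/
theorem isAlgSpaceP_of_etale_cover (F : PSp S) (h1 : Presheaf.IsSheaf (Jet S) F) (U : Sp S)
    (hU : IsAlgSpace U) (p : U.obj ⟶ F) (h2 : RepBySpWith (IsSurjectiveMor ⊓ IsEtaleMor) p) :
    IsAlgSpaceP F := by
  obtain ⟨U', q, hqe, hqs⟩ := hU.atlas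
  let p' : (pyon S).obj U' ⟶ F := q.hom ≫ p
  have key : ∀ (T : Over S) (ξ : (pyon S).obj T ⟶ F), ∃ (E E' : Sp S) (k : E' ⟶ E)
      (sndE : E ⟶ (yon S).obj T) (fst' : E'.obj ⟶ (pyon S).obj U'),
      IsPullback fst' (k ≫ sndE).hom p' ξ ∧ IsAlgSpace E ∧ IsAlgSpace E' ∧ RepWith @Etale k ∧
        RepWith @Surjective k ∧ IsSurjectiveMor sndE ∧ IsEtaleMor sndE := by
    intro T ξ
    have sq : IsPullback (pullback.fst p ξ) (pullback.snd p ξ) p ξ := IsPullback.of_hasPullback _ _
    obtain ⟨hsh, hE, hQ1, hQ2⟩ := h2 ξ _ _ sq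
    let E : Sp S := ⟨pullback p ξ, hsh⟩
    let fstE : E ⟶ U := ObjectProperty.homMk (pullback.fst p ξ)
    let sndE : E ⟶ (yon S).obj T := ObjectProperty.homMk (pullback.snd p ξ)
    have pbq : IsPullback (pullback.fst q fstE) (pullback.snd q fstE) q fstE :=
      IsPullback.of_hasPullback _ _
    have pbqp := pbq.flip.map (sheafToPresheaf (J S) (Type (u + 1)))
    have sq' : IsPullback sndE.hom fstE.hom ξ p := sq.flip
    have paste := (pbqp.paste_horiz sq').flip
    have hke : RepWith @Etale (pullback.snd q fstE) := (RepWith @Etale).of_isPullback pbq hqe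
    have hks : RepWith @Surjective (pullback.snd q fstE) :=
      (RepWith @Surjective).of_isPullback pbq hqs
    exact ⟨E, pullback q fstE, pullback.snd q fstE, sndE, (pullback.fst q fstE).hom, paste, hE,
      isAlgSpace_of_representable _ hke.rep hE, hke, hks, hQ1, hQ2⟩
  have hrep : RepBySpWith (LocP (@LocallyQuasiFinite ⊓ @LocallyOfFiniteType)) p' := by
    refine repBySpWith_of_exists_pullback p' _
      (fun e f hf => Zmt.locP_etale_comp e.hom (repWith_of_isIso _ _) f hf) (fun T ξ => ?_)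
    obtain ⟨E, E', k, sndE, fst', pb, hE, hE', hke, hks, hs, het⟩ := key T ξ
    exact ⟨E', fst', k ≫ sndE, pb, hE', locP_lqf_of_isEtaleMor k hke sndE het⟩
  have hrr := LqfSep.relativelyRepresentable_of_lqf F U' p' hrep
  have hiso : ∀ {a b : Over S} (g : (pyon S).obj a ⟶ F) (fst : (pyon S).obj b ⟶ (pyon S).obj U')
      (snd : b ⟶ a), IsPullback fst ((pyon S).map snd) p' g →
      ∃ (E E' : Sp S) (k : E' ⟶ E) (sndE : E ⟶ (yon S).obj a) (e : (yon S).obj b ≅ E'),
        e.hom ≫ k ≫ sndE = (yon S).map snd ∧ RepWith @Etale k ∧ RepWith @Surjective k ∧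
          IsSurjectiveMor sndE ∧ IsEtaleMor sndE := by
    intro a b g fst snd sq
    obtain ⟨E, E', k, sndE, fst', pb, hE, hE', hke, hks, hs, het⟩ := key a g
    let e' : (pyon S).obj b ≅ E'.obj := sq.isoIsPullback _ _ pb
    let e : (yon S).obj b ≅ E' := (fullyFaithfulSheafToPresheaf (J S) _).preimageIso e'
    refine ⟨E, E', k, sndE, e, ?_, hke, hks, hs, het⟩
    apply Sheaf.hom_ext
    exact sq.isoIsPullback_hom_snd _ _ pb
  refine isAlgSpaceP_of_etale_chart F h1 U' p' ⟨hrr, ?_⟩ ⟨hrr, ?_⟩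
  · intro a b g fst snd sq
    obtain ⟨E, E', k, sndE, e, he, hke, hks, hs, het⟩ := hiso g fst snd sq
    have h2 : RepWith @Etale (e.hom ≫ k) :=
      (RepWith @Etale).comp_mem _ _ (repWith_of_isIso _ _) hke
    have h3 := het _ h2
    rw [Category.assoc, he] at h3
    exact (repWith_yon_map_iff _ snd).1 h3
  · intro a b g fst snd sq
    obtain ⟨E, E', k, sndE, e, he, hke, hks, hs, het⟩ := hiso g fst snd sq
    have h2 : IsSurjectiveMor ((yon S).map snd) := by
      rw [← he]
      intro y
      obtain ⟨y1, rfl⟩ := hs y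
      obtain ⟨y2, rfl⟩ := isSurjectiveMor_of_repWith_surjective k hks y1
      refine ⟨Points.map e.inv y2, ?_⟩
      rw [← Points.map_comp, Iso.inv_hom_id_assoc, Points.map_comp]
    exact (repWith_yon_map_iff _ snd).1
      (repWith_surjective_of_isSurjectiveMor _ (representable_of_yon _) h2)

end Groth.Agent.Helper19.EtBoot
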